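import Mathlib.RingTheory.Regular.RegularSequence
import Mathlib.RingTheory.Regular.Flat
import Mathlib.RingTheory.Filtration

/-!
# Regular sequences on filtered modules

* `of_exact`: weak regularity passes to extensions.
* `of_forall_pow`: weak regularity on every `N / J^n N` gives it on `N`.
-/

set_option autoImplicit false

universe u

open RingTheory.Sequence Function
open scoped Pointwise

namespace Groth.Agent.NormFlatSeq12

variable {A : Type u} [CommRing A]

theorem of_exact {M₁ M₂ M₃ : Type u} [AddCommGroup M₁] [Module A M₁] [AddCommGroup M₂] [Module A M₂]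
    [AddCommGroup M₃] [Module A M₃] {f : M₁ →ₗ[A] M₂} {g : M₂ →ₗ[A] M₃} (hf : Injective f)
    (hfg : Exact f g) (hg : Surjective g) (rs : List A) (h₁ : IsWeaklyRegular M₁ rs)
    (h₃ : IsWeaklyRegular M₃ rs) : IsWeaklyRegular M₂ rs := by
  induction rs generalizing M₁ M₂ M₃ with
  | nil => exact IsWeaklyRegular.nil A M₂
  | cons r rs ih =>
    rw [isWeaklyRegular_cons_iff] at h₁ h₃ ⊢
    refine ⟨isSMulRegular_of_range_eq_ker hf hfg.linearMap_ker_eq.symm h₁.1 h₃.1, ?_⟩
    refine ih ?_ (QuotSMulTop.map_exact r hfg hg) (QuotSMulTop.map_surjective r hg) h₁.2 h₃.2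
    have h0 : Exact (0 : PUnit.{u + 1} →ₗ[A] M₁) f := fun y => by
      simp only [Set.mem_range, LinearMap.zero_apply, exists_const]
      exact ⟨fun h => (hf (h.trans (map_zero f).symm)).symm, fun h => by rw [← h, map_zero]⟩
    have h := QuotSMulTop.map_first_exact_on_four_term_exact_of_isSMulRegular_last h0 hfg h₃.1
    intro a b hab
    have h' : QuotSMulTop.map r f (a - b) = 0 := by rw [map_sub, hab, sub_self]
    obtain ⟨c, hc⟩ := (h _).1 h'
    rw [map_zero, LinearMap.zero_apply] at hc
    exact sub_eq_zero.1 hc.symm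

theorem mem_smul_top_quot_iff {N : Type u} [AddCommGroup N] [Module A N] (L K : Ideal A) (y : N) :
    Submodule.Quotient.mk y ∈ L • (⊤ : Submodule A (N ⧸ K • (⊤ : Submodule A N))) ↔
      y ∈ L • (⊤ : Submodule A N) ⊔ K • (⊤ : Submodule A N) := by
  rw [← Submodule.range_mkQ (K • (⊤ : Submodule A N)), ← Submodule.map_top, ← Submodule.map_smul'',
    ← Submodule.mkQ_apply, ← Submodule.mem_comap, Submodule.comap_map_mkQ, sup_comm]

theorem of_forall_pow [IsLocalRing A] [IsNoetherianRing A] (J : Ideal A) (hJ : J ≠ ⊤) {N : Type u}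
    [AddCommGroup N] [Module A N] [Module.Finite A N] (rs : List A)
    (h : ∀ n : ℕ, IsWeaklyRegular (N ⧸ J ^ n • (⊤ : Submodule A N)) rs) : IsWeaklyRegular N rs := by
  refine ⟨fun i hi => isSMulRegular_quotient_iff_mem_of_smul_mem _ _ |>.2 fun y hy => ?_⟩
  rw [← Submodule.Quotient.mk_eq_zero, ← Submodule.mem_bot (R := A),
    ← Ideal.iInf_pow_smul_eq_bot_of_isLocalRing J hJ]
  refine Submodule.mem_iInf _ |>.2 fun n => ?_
  have hn := mem_of_isSMulRegular_quotient_of_smul_mem ((h n).regular_mod_prev i hi)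
    (show rs[i] • (Submodule.Quotient.mk y : N ⧸ J ^ n • (⊤ : Submodule A N)) ∈ _ by
      rw [← Submodule.Quotient.mk_smul, mem_smul_top_quot_iff]
      exact Submodule.mem_sup_left hy)
  rw [mem_smul_top_quot_iff, sup_comm] at hn
  rw [mem_smul_top_quot_iff]
  exact hn

end Groth.Agent.NormFlatSeq12
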